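import Cfsg.Agent.Lib.ChevBN.Instance
import Cfsg.Agent.Lib.ChevBN.Perfect

/-!
# Generation by the monomial subgroup and root subgroups

`S` contains the monomial subgroup; the roots `q` with `X_q ≤ S` are closed under the fundamental
reflections and under single-term commutators with invertible coefficient.
-/

set_option autoImplicit false

namespace Cfsg.Agent.ChevGen

open Cfsg.Lie Cfsg.Lie.ChevalleyDatum Cfsg.Agent.Chev Cfsg.Agent.ChevSt Cfsg.Agent.ChevBN

variable {D : ChevalleyDatum} (hD : Good D) {F : Type*} [Field F] (S : Subgroup (GL D.Idx F))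

/-- `X_q ≤ S`. -/
def In (q : ℕ) : Prop := ∀ v : F, xg hD F q v ∈ S

theorem in_of_le {q : ℕ} (h : D.rootSubgroup F q ≤ S) : In hD S q :=
  fun v => h (xg_mem_rootSubgroup hD q v)

variable {S}

include hD in
theorem ng_mem (hS : D.monomialSubgroup F ≤ S) {r : ℕ} (hr : r < D.nroots) : ng hD F r 1 ∈ S :=
  hS (Subgroup.mem_sup_right (Subgroup.subset_closure ⟨r, hr, coe_ng hD r 1⟩))

theorem in_wN (hS : D.monomialSubgroup F ≤ S) {i q : ℕ} (hi : i < D.rank) (hq : q < D.nroots)
    (h : In hD S q) : In hD S (wN D i q) := by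
  intro v
  have hn := ng_mem hD hS (hD.simple_lt i hi)
  have hm := mul_mem (mul_mem hn (h ((nSign D (D.simple i) q : F) * v))) (inv_mem hn)
  rw [ng_conj_xg hD hi hq, ← mul_assoc] at hm
  rcases (nSign_cases hD (hD.simple_lt i hi) hq).1 with e | e <;> rw [e] at hm <;> simpa using hm

theorem in_foldr (hS : D.monomialSubgroup F ≤ S) {i : ℕ} (hi : i < D.rank) (h : In hD S (D.simple i)) :
    ∀ w : List ℕ, (∀ k ∈ w, k < D.rank) →
      w.foldr (wN D) (D.simple i) < D.nroots ∧ In hD S (w.foldr (wN D) (D.simple i))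
  | [], _ => ⟨hD.simple_lt i hi, h⟩
  | k :: w, hw => by
    obtain ⟨h1, h2⟩ := in_foldr hS hi h w fun a ha => hw a (List.mem_cons_of_mem _ ha)
    have hk := hw k (by simp)
    exact ⟨refl_lt hD (hD.simple_lt k hk) h1, in_wN hD hS hk h1 h2⟩

/-- The roots of `p_i`, `p_j` with a single bond are interchanged. -/
def Edge (D : ChevalleyDatum) (i j : ℕ) : Bool :=
  decide (i < D.rank) && decide (j < D.rank) &&
    decide (wN D i (wN D j (D.simple i)) = D.simple j) && decide (wN D j (wN D i (D.simple j)) = D.simple i)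

theorem in_edge (hS : D.monomialSubgroup F ≤ S) {i j : ℕ} (h : Edge D i j = true) :
    In hD S (D.simple i) ↔ In hD S (D.simple j) := by
  simp only [Edge, Bool.and_eq_true, decide_eq_true_eq] at h
  obtain ⟨⟨⟨hi, hj⟩, h1⟩, h2⟩ := h
  constructor <;> intro hp
  · have := (in_foldr hD hS hi hp [i, j] (by simp [hi, hj])).2
    simpa [h1] using this
  · have := (in_foldr hD hS hj hp [j, i] (by simp [hi, hj])).2
    simpa [h2] using this

/-- The certificate that `p_j` is the sum of two images of `p_i`, with coefficient `c`. -/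
def SumCert (D : ChevalleyDatum) (i j : ℕ) (w w' : List ℕ) (c : ℤ) : Bool :=
  decide (i < D.rank) && decide (∀ k ∈ w, k < D.rank) && decide (∀ k ∈ w', k < D.rank) &&
    decide (w'.foldr (wN D) (D.simple i) ≠ w.foldr (wN D) (D.simple i)) &&
    decide (w'.foldr (wN D) (D.simple i) ≠ D.neg (w.foldr (wN D) (D.simple i))) &&
    decide (D.commTerms (w.foldr (wN D) (D.simple i)) (w'.foldr (wN D) (D.simple i)) =
      [(D.simple j, c, 1, 1)])

theorem in_sum (hS : D.monomialSubgroup F ≤ S) {i j : ℕ} {w w' : List ℕ} {c : ℤ}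
    (h : SumCert D i j w w' c = true) (hc : (c : F) ≠ 0) (hp : In hD S (D.simple i)) :
    In hD S (D.simple j) := by
  simp only [SumCert, Bool.and_eq_true, decide_eq_true_eq] at h
  obtain ⟨⟨⟨⟨⟨hi, hw⟩, hw'⟩, h₁⟩, h₂⟩, e⟩ := h
  obtain ⟨hr, hpr⟩ := in_foldr hD hS hi hp w hw
  obtain ⟨hs, hps⟩ := in_foldr hD hS hi hp w' hw'
  generalize w.foldr (wN D) (D.simple i) = r at hr hpr h₁ h₂ e
  generalize w'.foldr (wN D) (D.simple i) = s at hs hps h₁ h₂ e
  intro v
  set u : F := (c : F)⁻¹ * -v with hu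
  have e' : xg hD F s u * xg hD F r 1 = xg hD F r 1 * xg hD F s u * xg hD F (D.simple j) v := by
    apply Units.ext
    rw [Units.val_mul, Units.val_mul, Units.val_mul, coe_xg, coe_xg, coe_xg,
      hD.commutator hr hs h₁ h₂, ChevalleyDatum.commWord, e]
    simp only [List.map_cons, List.map_nil, pow_one]
    rw [show (c : F) * (-1) * u = v by rw [hu]; field_simp]
    simp [ChevalleyDatum.wordMat]
  have hm := mul_mem (inv_mem (mul_mem (hpr 1) (hps u))) (mul_mem (hps u) (hpr 1))
  rwa [e', inv_mul_cancel_left] at hm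

theorem group_le (hS : D.monomialSubgroup F ≤ S) {M : List (List ℤ)} {d : ℤ} (hR : Roots D M d)
    (h : ∀ i < D.rank, In hD S (D.simple i)) : D.group F ≤ S := by
  have key : ∀ q < D.nroots, D.IsPosRoot q → In hD S q ∧ In hD S (D.neg q) := by
    intro q hq hp
    have := hR.pos_induction hD
      (P := fun q => q < D.nroots ∧ In hD S q ∧ In hD S (D.neg q))
      (fun i hi => ⟨hD.simple_lt i hi, h i hi, by
        have := in_wN hD hS hi (hD.simple_lt i hi) (h i hi)
        simpa [wN, Chev.refl] using this⟩)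
      (fun i hi p hp' e => by
        refine ⟨refl_lt hD (hD.simple_lt i hi) hp', in_wN hD hS hi hp' e.2.1, ?_⟩
        rw [← hR.refl_neg hD hi hp']
        exact in_wN hD hS hi (hD.neg_lt p hp') e.2.2) hq hp
    exact this.2
  refine (Subgroup.closure_le _).2 ?_
  rintro g ⟨r, t, e⟩
  obtain rfl : g = xg hD F r.val t := Units.ext (by rw [e]; simp [ChevalleyDatum.x])
  by_cases hp : D.IsPosRoot r.val
  · exact (key r.val r.isLt hp).1 t
  · have := (key _ (hD.neg_lt _ r.isLt) ((pos_or_neg hD r.isLt).2 hp)).2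
    rw [hD.neg_neg _ r.isLt] at this
    exact this t

end Cfsg.Agent.ChevGen
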