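import Cfsg.Agent.Lib.ChevGen.Monomial
import Cfsg.Agent.Lib.ChevBN.RootTables

/-!
# `D.group ≤ N ⊔ X_p` for the seven data
-/

set_option autoImplicit false
set_option maxRecDepth 100000

namespace Cfsg.Agent.ChevGen

open Cfsg.Lie Cfsg.Lie.ChevalleyDatum Cfsg.Agent.Chev Cfsg.Agent.ChevSt Cfsg.Agent.ChevBN

variable {F : Type*} [Field F]

theorem two_bonded {D : ChevalleyDatum} (hD : Good D) {M : List (List ℤ)} {d : ℤ} (hR : Roots D M d)
    (h2 : D.rank = 2) {S : Subgroup (GL D.Idx F)} (hS : D.monomialSubgroup F ≤ S)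
    (h0 : In hD S (D.simple 0)) (h1 : In hD S (D.simple 1)) : D.group F ≤ S :=
  group_le hD hS hR fun i hi => by
    rw [h2] at hi
    interval_cases i
    · exact h0
    · exact h1

theorem f4_all (hD : Good chevF4) {S : Subgroup (GL chevF4.Idx F)} (hS : chevF4.monomialSubgroup F ≤ S)
    {i j : ℕ} (hi : i < 2) (hj : j < 4) (hj2 : 2 ≤ j)
    (h0 : In hD S (chevF4.simple i)) (h1 : In hD S (chevF4.simple j)) : chevF4.group F ≤ S := by
  have e1 := in_edge hD hS (i := 0) (j := 1) (by decide +kernel)
  have e2 := in_edge hD hS (i := 2) (j := 3) (by decide +kernel)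
  refine group_le hD hS rootsF4 fun k hk => ?_
  change k < 4 at hk
  interval_cases i <;> interval_cases j <;> interval_cases k <;> simp_all

theorem d4_all (hD : Good chevD4) {S : Subgroup (GL chevD4.Idx F)} (hS : chevD4.monomialSubgroup F ≤ S)
    {i : ℕ} (hi : i < 4) (h0 : In hD S (chevD4.simple i)) : chevD4.group F ≤ S := by
  have e1 := in_edge hD hS (i := 0) (j := 1) (by decide +kernel)
  have e2 := in_edge hD hS (i := 1) (j := 2) (by decide +kernel)
  have e3 := in_edge hD hS (i := 1) (j := 3) (by decide +kernel)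
  refine group_le hD hS rootsD4 fun k hk => ?_
  change k < 4 at hk
  interval_cases i <;> interval_cases k <;> simp_all

theorem e6_all (hD : Good chevE6) {S : Subgroup (GL chevE6.Idx F)} (hS : chevE6.monomialSubgroup F ≤ S)
    {i : ℕ} (hi : i < 6) (h0 : In hD S (chevE6.simple i)) : chevE6.group F ≤ S := by
  have e1 := in_edge hD hS (i := 0) (j := 2) (by decide +kernel)
  have e2 := in_edge hD hS (i := 1) (j := 3) (by decide +kernel)
  have e3 := in_edge hD hS (i := 2) (j := 3) (by decide +kernel)
  have e4 := in_edge hD hS (i := 3) (j := 4) (by decide +kernel)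
  have e5 := in_edge hD hS (i := 4) (j := 5) (by decide +kernel)
  refine group_le hD hS rootsE6 fun k hk => ?_
  change k < 6 at hk
  interval_cases i <;> interval_cases k <;> simp_all

theorem e7_all (hD : Good chevE7) {S : Subgroup (GL chevE7.Idx F)} (hS : chevE7.monomialSubgroup F ≤ S)
    {i : ℕ} (hi : i < 7) (h0 : In hD S (chevE7.simple i)) : chevE7.group F ≤ S := by
  have e1 := in_edge hD hS (i := 0) (j := 2) (by decide +kernel)
  have e2 := in_edge hD hS (i := 1) (j := 3) (by decide +kernel)
  have e3 := in_edge hD hS (i := 2) (j := 3) (by decide +kernel)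
  have e4 := in_edge hD hS (i := 3) (j := 4) (by decide +kernel)
  have e5 := in_edge hD hS (i := 4) (j := 5) (by decide +kernel)
  have e6 := in_edge hD hS (i := 5) (j := 6) (by decide +kernel)
  refine group_le hD hS rootsE7 fun k hk => ?_
  change k < 7 at hk
  interval_cases i <;> interval_cases k <;> simp_all

theorem e8_all (hD : Good chevE8) {S : Subgroup (GL chevE8.Idx F)} (hS : chevE8.monomialSubgroup F ≤ S)
    {i : ℕ} (hi : i < 8) (h0 : In hD S (chevE8.simple i)) : chevE8.group F ≤ S := by
  have e1 := in_edge hD hS (i := 0) (j := 2) (by decide +kernel)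
  have e2 := in_edge hD hS (i := 1) (j := 3) (by decide +kernel)
  have e3 := in_edge hD hS (i := 2) (j := 3) (by decide +kernel)
  have e4 := in_edge hD hS (i := 3) (j := 4) (by decide +kernel)
  have e5 := in_edge hD hS (i := 4) (j := 5) (by decide +kernel)
  have e6 := in_edge hD hS (i := 5) (j := 6) (by decide +kernel)
  have e7 := in_edge hD hS (i := 6) (j := 7) (by decide +kernel)
  refine group_le hD hS rootsE8 fun k hk => ?_
  change k < 8 at hk
  interval_cases i <;> interval_cases k <;> simp_all

theorem short_g2 : ∀ i < chevG2.rank, chevG2.isLong (chevG2.simple i) = false ↔ i = 0 := by decide +kernel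
theorem short_b2 : ∀ i < chevB2.rank, chevB2.isLong (chevB2.simple i) = false ↔ i = 0 := by decide +kernel
theorem short_f4 : ∀ i < chevF4.rank, chevF4.isLong (chevF4.simple i) = false ↔ i < 2 := by decide +kernel

/-- The group is generated by `N` and one short fundamental root subgroup, given the coefficient conditions. -/
theorem group_le_short {D : ChevalleyDatum} (hD : Good D)
    (hm : D ∈ [chevG2, chevB2, chevD4, chevF4, chevE6, chevE7, chevE8])
    (h2 : D ∈ [chevB2, chevF4] → (2 : F) ≠ 0) (h3 : D = chevG2 → (3 : F) ≠ 0)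
    (i : ℕ) (hi : i < D.rank) (hs : D.isLong (D.simple i) = false) :
    D.group F ≤ D.monomialSubgroup F ⊔ D.rootSubgroup F (D.simple i) := by
  set S := D.monomialSubgroup F ⊔ D.rootSubgroup F (D.simple i) with hSdef
  have hS : D.monomialSubgroup F ≤ S := le_sup_left
  have hp : In hD S (D.simple i) := in_of_le hD S le_sup_right
  clear_value S
  simp only [List.mem_cons, List.not_mem_nil, or_false] at hm
  rcases hm with rfl | rfl | rfl | rfl | rfl | rfl | rfl
  · obtain rfl := (short_g2 i hi).1 hs
    refine two_bonded hD rootsG2 rfl hS hp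
      (in_sum hD hS (w := [0]) (w' := [1]) (c := -3) (by decide +kernel) ?_ hp)
    simpa using h3 rfl
  · obtain rfl := (short_b2 i hi).1 hs
    refine two_bonded hD rootsB2 rfl hS hp
      (in_sum hD hS (w := [0]) (w' := [1]) (c := -2) (by decide +kernel) ?_ hp)
    simpa using h2 (by simp)
  · exact d4_all hD hS hi hp
  · have hi2 := (short_f4 i hi).1 hs
    have e1 := in_edge hD hS (i := 0) (j := 1) (by decide +kernel)
    have h1 : In hD S (chevF4.simple 1) := by interval_cases i <;> simp_all
    refine f4_all hD hS (i := 1) (j := 2) (by omega) (by omega) le_rfl h1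
      (in_sum hD hS (w := [1]) (w' := [2]) (c := -2) (by decide +kernel) ?_ h1)
    simpa using h2 (by simp)
  · exact e6_all hD hS hi hp
  · exact e7_all hD hS hi hp
  · exact e8_all hD hS hi hp

theorem short_long_b2 {S : Subgroup (GL chevB2.Idx F)} (hD : Good chevB2) (hS : chevB2.monomialSubgroup F ≤ S)
    {i j : ℕ} (hi : i < chevB2.rank) (hj : j < chevB2.rank) (hs : chevB2.isLong (chevB2.simple i) = false)
    (hl : chevB2.isLong (chevB2.simple j) = true) (h0 : In hD S (chevB2.simple i))
    (h1 : In hD S (chevB2.simple j)) : chevB2.group F ≤ S := by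
  obtain rfl := (short_b2 i hi).1 hs
  obtain rfl : j = 1 := by
    have : j ≠ 0 := fun e => by rw [(short_b2 j hj).2 e] at hl; exact Bool.false_ne_true hl
    change j < 2 at hj
    omega
  exact two_bonded hD rootsB2 rfl hS h0 h1

theorem short_long_g2 {S : Subgroup (GL chevG2.Idx F)} (hD : Good chevG2) (hS : chevG2.monomialSubgroup F ≤ S)
    {i j : ℕ} (hi : i < chevG2.rank) (hj : j < chevG2.rank) (hs : chevG2.isLong (chevG2.simple i) = false)
    (hl : chevG2.isLong (chevG2.simple j) = true) (h0 : In hD S (chevG2.simple i))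
    (h1 : In hD S (chevG2.simple j)) : chevG2.group F ≤ S := by
  obtain rfl := (short_g2 i hi).1 hs
  obtain rfl : j = 1 := by
    have : j ≠ 0 := fun e => by rw [(short_g2 j hj).2 e] at hl; exact Bool.false_ne_true hl
    change j < 2 at hj
    omega
  exact two_bonded hD rootsG2 rfl hS h0 h1

theorem short_long_f4 {S : Subgroup (GL chevF4.Idx F)} (hD : Good chevF4) (hS : chevF4.monomialSubgroup F ≤ S)
    {i j : ℕ} (hi : i < chevF4.rank) (hj : j < chevF4.rank) (hs : chevF4.isLong (chevF4.simple i) = false)
    (hl : chevF4.isLong (chevF4.simple j) = true) (h0 : In hD S (chevF4.simple i))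
    (h1 : In hD S (chevF4.simple j)) : chevF4.group F ≤ S := by
  refine f4_all hD hS ((short_f4 i hi).1 hs) hj ?_ h0 h1
  by_contra hc
  rw [(short_f4 j hj).2 (by omega)] at hl
  exact Bool.false_ne_true hl

end Cfsg.Agent.ChevGen
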