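import Cfsg.Agent.Lib.ChevBN.Torus
import Cfsg.Agent.Lib.ChevBN.Instance
import Cfsg.Agent.Lib.ChevSt.Centre
import Cfsg.Agent.Lib.Chev.SL2Hom

/-!
# Two generation of Chevalley groups

The pair is `h_s(ζ) x_u(1)` and `x_r(1) n` for more than two field elements, where `n` is the product of
the fundamental `n_i`; over two elements `x_r(1)` or `x_u(1) x_{-r}(1) x_r(1)`, and `n`. The roots `q`
with `X_q` inside the generated subgroup are closed up by the steps of a certificate `Cert`.

* `exists_two_gen_big` : more than two field elements;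
* `exists_two_gen_two`, `exists_two_gen_two'` : two field elements.
-/

set_option autoImplicit false

namespace Cfsg.Agent.ChevGen.TwoGen

open Cfsg.Lie Cfsg.Lie.ChevalleyDatum Cfsg.Agent.Chev Cfsg.Agent.ChevSt Cfsg.Agent.ChevBN

variable {D : ChevalleyDatum} (hD : Good D) {F : Type*} [Field F]

/-- The action of the Coxeter element on roots. -/
def wC (D : ChevalleyDatum) (q : ℕ) : ℕ := (List.range D.rank).foldr (wN D) q

/-- A representative of the Coxeter element. -/
def nC (F : Type*) [Field F] : GL D.Idx F := ((List.range D.rank).map fun i => ng hD F (D.simple i) 1).prod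

/-- A step of a certificate. -/
inductive Step where
  /-- the orbit of a known root under the Coxeter element -/
  | orbit (q : ℕ) (rest : List ℕ)
  /-- the reflection in `p` when `±p` are known -/
  | refl (p q : ℕ)
  /-- the `k`-th term of a commutator of known roots -/
  | comm (p q k : ℕ)
  /-- the `k`-th term of a commutator with the distinguished root -/
  | half (v k : ℕ)

/-- The root yielded by the `k`-th commutator term. -/
def termRoot (D : ChevalleyDatum) (p q k : ℕ) : ℕ := (((D.commTerms p q)[k]?).map Prod.fst).getD 0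

/-- All other terms are known and the `k`-th one has coefficient `±1` and degree one in the second argument. -/
def termOK (D : ChevalleyDatum) (K : List ℕ) (p q k : ℕ) : Bool :=
  match (D.commTerms p q)[k]? with
  | none => false
  | some g => decide (g.2.2.2 = 1) && decide (g.2.1 = 1 ∨ g.2.1 = -1) && decide (g.1 < D.nroots) &&
      ((D.commTerms p q).eraseIdx k).all fun g' => K.contains g'.1

/-- Successive images under the Coxeter element. -/
def chainOK (D : ChevalleyDatum) : ℕ → List ℕ → Bool
  | _, [] => true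
  | q, t :: l => decide (wC D q = t) && chainOK D t l

/-- One step, with the distinguished root `hf`. -/
def step (D : ChevalleyDatum) (hf : Option ℕ) (K : List ℕ) : Step → Option (List ℕ)
  | .orbit q rest => if K.contains q && chainOK D q rest then some (K ++ rest) else none
  | .refl p q =>
      if K.contains p && K.contains (D.neg p) && K.contains q then some (K ++ [Chev.refl D p q]) else none
  | .comm p q k =>
      if K.contains p && K.contains q && decide (q ≠ p) && decide (q ≠ D.neg p) && termOK D K p q k then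
        some (K ++ [termRoot D p q k]) else none
  | .half v k =>
      match hf with
      | none => none
      | some r =>
        if decide (r < D.nroots) && K.contains v && decide (v ≠ r) && decide (v ≠ D.neg r) &&
            decide (D.commTerms (D.neg r) v = []) && termOK D K r v k then
          some (K ++ [termRoot D r v k]) else none

/-- The steps lead from the seeds to the fundamental roots and their negatives. -/
def cert (D : ChevalleyDatum) (hf : Option ℕ) (seeds : List ℕ) (steps : List Step) : Bool :=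
  seeds.all (fun q => decide (q < D.nroots)) &&
    match steps.foldlM (step D hf) seeds with
    | none => false
    | some K => (List.range D.rank).all fun i => K.contains (D.simple i) && K.contains (D.neg (D.simple i))

/-- A certificate can be checked in pieces. -/
theorem cert_append {hf : Option ℕ} {seeds K : List ℕ} {l₁ l₂ : List Step}
    (h0 : seeds.all (fun q => decide (q < D.nroots)) = true) (h1 : l₁.foldlM (step D hf) seeds = some K)
    (h2 : cert D hf K l₂ = true) : cert D hf seeds (l₁ ++ l₂) = true := by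
  simp only [cert, Bool.and_eq_true] at h2 ⊢
  refine ⟨h0, ?_⟩
  rw [List.foldlM_append, h1]
  exact h2.2

variable (S : Subgroup (GL D.Idx F))

/-- `X_q ≤ S`. -/
def Full (q : ℕ) : Prop := q < D.nroots ∧ ∀ v : F, xg hD F q v ∈ S

variable {S}

theorem ng_conj {p s : ℕ} (hp : p < D.nroots) (hs : s < D.nroots) (v : F) :
    ng hD F p 1 * xg hD F s v * (ng hD F p 1)⁻¹ = xg hD F (Chev.refl D p s) ((nSign D p s : F) * v) := by
  rw [mul_inv_eq_iff_eq_mul]
  refine Units.ext ?_
  rw [Units.val_mul, Units.val_mul, coe_ng, coe_xg, coe_xg, nMat_conj hD hp hs one_ne_zero, one_zpow, mul_one]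

theorem list_conj : ∀ (l : List ℕ), (∀ i ∈ l, i < D.rank) → ∀ {q : ℕ}, q < D.nroots →
    l.foldr (wN D) q < D.nroots ∧ ∃ σ : F, (σ = 1 ∨ σ = -1) ∧ ∀ v : F,
      (l.map fun i => ng hD F (D.simple i) 1).prod * xg hD F q v *
        ((l.map fun i => ng hD F (D.simple i) 1).prod)⁻¹ = xg hD F (l.foldr (wN D) q) (σ * v)
  | [], _, q, hq => ⟨hq, 1, Or.inl rfl, fun v => by simp⟩
  | i :: l, hl, q, hq => by
    obtain ⟨h1, σ, hσ, h⟩ := list_conj l (fun j hj => hl j (List.mem_cons_of_mem _ hj)) hq
    have hi := hD.simple_lt i (hl i (by simp))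
    refine ⟨refl_lt hD hi h1, (nSign D (D.simple i) (l.foldr (wN D) q) : F) * σ, ?_, fun v => ?_⟩
    · rcases (nSign_cases hD hi h1).1 with e | e <;> rcases hσ with e' | e' <;> simp [e, e']
    · simp only [List.map_cons, List.prod_cons, List.foldr_cons]
      rw [show ∀ a b x : GL D.Idx F, a * b * x * (a * b)⁻¹ = a * (b * x * b⁻¹) * a⁻¹ from
        fun a b x => by group, h, ng_conj hD hi h1, mul_assoc]
      rfl

theorem nC_conj {q : ℕ} (hq : q < D.nroots) : wC D q < D.nroots ∧ ∃ σ : F, (σ = 1 ∨ σ = -1) ∧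
    ∀ v : F, nC hD F * xg hD F q v * (nC hD F)⁻¹ = xg hD F (wC D q) (σ * v) :=
  list_conj hD _ (fun _ hi => List.mem_range.1 hi) hq

theorem full_wC (hn : nC hD F ∈ S) {q : ℕ} (h : Full hD S q) : Full hD S (wC D q) := by
  obtain ⟨h1, σ, hσ, hc⟩ := nC_conj hD (F := F) h.1
  refine ⟨h1, fun v => ?_⟩
  have := mul_mem (mul_mem hn (h.2 (σ * v))) (inv_mem hn)
  rw [hc, ← mul_assoc] at this
  rcases hσ with e | e <;> simpa [e] using this

theorem full_chain (hn : nC hD F ∈ S) : ∀ (l : List ℕ) {q : ℕ}, Full hD S q → chainOK D q l = true →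
    ∀ t ∈ l, Full hD S t
  | [], _, _, _, t, ht => by simp at ht
  | x :: l, q, h, hl, t, ht => by
    simp only [chainOK, Bool.and_eq_true, decide_eq_true_eq] at hl
    obtain ⟨rfl, hl⟩ := hl
    rcases List.mem_cons.1 ht with rfl | ht
    · exact full_wC hD hn h
    · exact full_chain hn l (full_wC hD hn h) hl t ht

theorem full_refl {p q : ℕ} (hp : Full hD S p) (hp' : Full hD S (D.neg p)) (hq : Full hD S q) :
    Full hD S (Chev.refl D p q) := by
  refine ⟨refl_lt hD hp.1 hq.1, fun v => ?_⟩
  have hn : ng hD F p 1 ∈ S := mul_mem (mul_mem (hp.2 1) (hp'.2 _)) (hp.2 1)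
  have h := mul_mem (mul_mem hn (hq.2 ((nSign D p q : F) * v))) (inv_mem hn)
  rw [ng_conj hD hp.1 hq.1, ← mul_assoc] at h
  rcases (nSign_cases hD hp.1 hq.1).1 with e | e <;> simpa [e] using h

/-- A product in `S` with all factors but one in `S`. -/
theorem mem_of_prod {G : Type*} [Group G] {S : Subgroup G} {α : Type*} (f : α → G) {l : List α} {k : ℕ} {a : α}
    (hk : l[k]? = some a) (hl : (l.map f).prod ∈ S) (ho : ∀ b ∈ l.eraseIdx k, f b ∈ S) : f a ∈ S := by
  induction l generalizing k with
  | nil => simp at hk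
  | cons b l ih =>
    rw [List.map_cons, List.prod_cons] at hl
    cases k with
    | zero =>
      obtain rfl : b = a := by simpa using hk
      refine (Subgroup.mul_mem_cancel_right _ (list_prod_mem ?_)).1 hl
      intro x hx
      obtain ⟨c, hc, rfl⟩ := List.mem_map.1 hx
      exact ho c (by simpa using hc)
    | succ k =>
      have hb : f b ∈ S := ho b (by simp)
      exact ih (by simpa using hk) ((Subgroup.mul_mem_cancel_left _ hb).1 hl)
        fun c hc => ho c (by simp [hc])

theorem termOK_spec {K : List ℕ} {p q k : ℕ} (h : termOK D K p q k = true) :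
    ∃ c : ℤ, ∃ i : ℕ, (D.commTerms p q)[k]? = some (termRoot D p q k, c, i, 1) ∧ (c = 1 ∨ c = -1) ∧
      termRoot D p q k < D.nroots ∧ ∀ g ∈ (D.commTerms p q).eraseIdx k, g.1 ∈ K := by
  unfold termOK at h
  cases hk : (D.commTerms p q)[k]? with
  | none => simp [hk] at h
  | some g =>
    simp only [hk, Bool.and_eq_true, decide_eq_true_eq, List.all_eq_true, List.contains_iff_mem] at h
    obtain ⟨⟨⟨hj, hc⟩, hlt⟩, ho⟩ := h
    obtain ⟨t, c, i, j⟩ := g
    simp only at hj hc hlt
    subst hj
    refine ⟨c, i, ?_, hc, ?_, ho⟩ <;> simp [termRoot, hk, hlt]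

/-- The word of a commutator in `S`, with all terms but the `k`-th known. -/
theorem term_mem {p q : ℕ} {K : List ℕ} {k : ℕ} {t u : F} (hw : ((D.commWord F p q t u).map fun z => xg hD F z.1 z.2).prod ∈ S)
    (hK : ∀ x ∈ K, Full hD S x) {g : ℕ × ℤ × ℕ × ℕ} (hk : (D.commTerms p q)[k]? = some g)
    (ho : ∀ g ∈ (D.commTerms p q).eraseIdx k, g.1 ∈ K) :
    xg hD F g.1 ((g.2.1 : F) * (-t) ^ g.2.2.1 * u ^ g.2.2.2) ∈ S := by
  rw [ChevalleyDatum.commWord, List.map_map] at hw
  exact mem_of_prod (fun g : ℕ × ℤ × ℕ × ℕ => xg hD F g.1 ((g.2.1 : F) * (-t) ^ g.2.2.1 * u ^ g.2.2.2)) hk hw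
    fun g hg => (hK _ (ho g hg)).2 _

theorem word_mem {p q : ℕ} (hp : p < D.nroots) (hq : q < D.nroots) (h1 : q ≠ p) (h2 : q ≠ D.neg p) {t u : F}
    (hx : xg hD F q u ∈ S) (hc : (xg hD F p t)⁻¹ * xg hD F q u * xg hD F p t ∈ S) :
    ((D.commWord F p q t u).map fun z => xg hD F z.1 z.2).prod ∈ S := by
  have h := mul_mem (inv_mem hx) hc
  rw [mul_assoc (xg hD F p t)⁻¹, xg_commutator F hD hp hq h1 h2] at h
  simpa only [mul_assoc, inv_mul_cancel_left] using h

theorem full_comm {K : List ℕ} (hK : ∀ x ∈ K, Full hD S x) {p q k : ℕ} (hp : Full hD S p) (hq : Full hD S q)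
    (h1 : q ≠ p) (h2 : q ≠ D.neg p) (h : termOK D K p q k = true) : Full hD S (termRoot D p q k) := by
  obtain ⟨c, i, hk, hc, hlt, ho⟩ := termOK_spec h
  refine ⟨hlt, fun v => ?_⟩
  have := term_mem hD (word_mem hD hp.1 hq.1 h1 h2 (t := -1) (u := (c : F) * v) (hq.2 _)
    (mul_mem (mul_mem (inv_mem (hp.2 _)) (hq.2 _)) (hp.2 _))) hK hk ho
  rcases hc with rfl | rfl <;> simpa using this

/-- The two halves of the distinguished element, and a field with two elements. -/
def HalfOK (hf : Option ℕ) : Prop :=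
  ∀ r, hf = some r → (∀ x : F, x = 0 ∨ x = 1) ∧ xg hD F (D.neg r) 1 * xg hD F r 1 ∈ S

theorem full_half {r : ℕ} (hr : r < D.nroots) (hF : ∀ x : F, x = 0 ∨ x = 1)
    (he : xg hD F (D.neg r) 1 * xg hD F r 1 ∈ S) {K : List ℕ} (hK : ∀ x ∈ K, Full hD S x) {v k : ℕ}
    (hv : Full hD S v) (h1 : v ≠ r) (h2 : v ≠ D.neg r) (h3 : D.commTerms (D.neg r) v = [])
    (h : termOK D K r v k = true) : Full hD S (termRoot D r v k) := by
  obtain ⟨c, i, hk, hc, hlt, ho⟩ := termOK_spec h
  have hcomm : xg hD F v 1 * xg hD F (D.neg r) 1 = xg hD F (D.neg r) 1 * xg hD F v 1 := by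
    rw [xg_commutator F hD (hD.neg_lt r hr) hv.1 h2 (by rwa [hD.neg_neg r hr]), ChevalleyDatum.commWord, h3]
    simp
  have hw : (xg hD F r 1)⁻¹ * xg hD F v 1 * xg hD F r 1 ∈ S := by
    have := mul_mem (mul_mem (inv_mem he) (hv.2 1)) he
    rwa [show (xg hD F (D.neg r) 1 * xg hD F r 1)⁻¹ * xg hD F v 1 * (xg hD F (D.neg r) 1 * xg hD F r 1) =
      (xg hD F r 1)⁻¹ * ((xg hD F (D.neg r) 1)⁻¹ * (xg hD F v 1 * xg hD F (D.neg r) 1)) * xg hD F r 1 by group,
      hcomm, inv_mul_cancel_left] at this
  have := term_mem hD (word_mem hD hr hv.1 h1 h2 (hv.2 1) hw) hK hk ho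
  refine ⟨hlt, fun x => ?_⟩
  rcases hF x with rfl | rfl
  · rw [xg_zero]; exact one_mem _
  · convert this using 2
    rcases hc with rfl | rfl <;> rcases hF (-1 : F) with e | e <;> simp_all

theorem step_spec (hn : nC hD F ∈ S) {hf : Option ℕ} (hh : HalfOK hD (S := S) hf) {K K' : List ℕ} {st : Step}
    (hK : ∀ x ∈ K, Full hD S x) (h : step D hf K st = some K') : ∀ x ∈ K', Full hD S x := by
  cases st with
  | orbit q rest =>
    simp only [step] at h
    split_ifs at h with hq
    obtain rfl := Option.some.inj h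
    intro x hx
    rcases List.mem_append.1 hx with hx | hx
    · exact hK x hx
    · simp only [Bool.and_eq_true, List.contains_iff_mem] at hq
      exact full_chain hD hn rest (hK q hq.1) hq.2 x hx
  | refl p q =>
    simp only [step] at h
    split_ifs at h with hc
    obtain rfl := Option.some.inj h
    simp only [Bool.and_eq_true, List.contains_iff_mem] at hc
    intro x hx
    rcases List.mem_append.1 hx with hx | hx
    · exact hK x hx
    · obtain rfl := List.mem_singleton.1 hx
      exact full_refl hD (hK _ hc.1.1) (hK _ hc.1.2) (hK _ hc.2)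
  | comm p q k =>
    simp only [step] at h
    split_ifs at h with hc
    obtain rfl := Option.some.inj h
    simp only [Bool.and_eq_true, List.contains_iff_mem, decide_eq_true_eq] at hc
    intro x hx
    rcases List.mem_append.1 hx with hx | hx
    · exact hK x hx
    · obtain rfl := List.mem_singleton.1 hx
      exact full_comm hD hK (hK _ hc.1.1.1.1) (hK _ hc.1.1.1.2) hc.1.1.2 hc.1.2 hc.2
  | half v k =>
    cases hf with
    | none => simp [step] at h
    | some r =>
      simp only [step] at h
      split_ifs at h with hc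
      obtain rfl := Option.some.inj h
      simp only [Bool.and_eq_true, List.contains_iff_mem, decide_eq_true_eq] at hc
      obtain ⟨hF, he⟩ := hh r rfl
      intro x hx
      rcases List.mem_append.1 hx with hx | hx
      · exact hK x hx
      · obtain rfl := List.mem_singleton.1 hx
        exact full_half hD hc.1.1.1.1.1 hF he hK (hK _ hc.1.1.1.1.2) hc.1.1.1.2 hc.1.1.2 hc.1.2 hc.2

theorem group_le_of_cert {M : List (List ℤ)} {d : ℤ} (hR : Roots D M d) (hn : nC hD F ∈ S) {hf : Option ℕ} (hh : HalfOK hD (S := S) hf) {seeds : List ℕ}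
    {steps : List Step} (hc : cert D hf seeds steps = true)
    (hs : ∀ q ∈ seeds, q < D.nroots → ∀ v : F, xg hD F q v ∈ S) : D.group F ≤ S := by
  simp only [cert, Bool.and_eq_true, List.all_eq_true, decide_eq_true_eq] at hc
  have key : ∀ (l : List Step) (K K' : List ℕ), (∀ x ∈ K, Full hD S x) → l.foldlM (step D hf) K = some K' →
      ∀ x ∈ K', Full hD S x := by
    intro l
    induction l with
    | nil => intro K K' hK h; simp only [List.foldlM_nil, pure, Option.some.injEq] at h; subst h; exact hK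
    | cons st l ih =>
      intro K K' hK h
      rw [List.foldlM_cons] at h
      cases hst : step D hf K st with
      | none => simp [hst] at h
      | some K'' =>
        rw [hst] at h
        exact ih K'' K' (step_spec hD hn hh hK hst) h
  obtain ⟨hlt, hc⟩ := hc
  cases hK : steps.foldlM (step D hf) seeds with
  | none => simp [hK] at hc
  | some K =>
    simp only [hK, List.all_eq_true, List.contains_iff_mem, Bool.and_eq_true] at hc
    have hall := key steps seeds K (fun x hx => ⟨hlt x hx, hs x hx (hlt x hx)⟩) hK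
    have hsim : ∀ i < D.rank, Full hD S (D.simple i) ∧ Full hD S (D.neg (D.simple i)) := fun i hi =>
      ⟨hall _ (hc i (List.mem_range.2 hi)).1, hall _ (hc i (List.mem_range.2 hi)).2⟩
    have hpos : ∀ q < D.nroots, D.IsPosRoot q → Full hD S q ∧ Full hD S (D.neg q) := fun q hq hp =>
      hR.pos_induction hD (P := fun q => Full hD S q ∧ Full hD S (D.neg q)) hsim
        (fun i hi p hp' e => ⟨full_refl hD (hsim i hi).1 (hsim i hi).2 e.1, by
          rw [← hR.refl_neg hD hi hp']
          exact full_refl hD (hsim i hi).1 (hsim i hi).2 e.2⟩) hq hp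
    refine (Subgroup.closure_le _).2 ?_
    rintro g ⟨r, t, e⟩
    obtain rfl : g = xg hD F r.val t := Units.ext (by rw [e]; simp [ChevalleyDatum.x])
    by_cases hp : D.IsPosRoot r.val
    · exact (hpos r.val r.isLt hp).1.2 t
    · have := (hpos _ (hD.neg_lt _ r.isLt) ((pos_or_neg hD r.isLt).2 hp)).2
      rw [hD.neg_neg _ r.isLt] at this
      exact this.2 t

include hD

theorem nC_mem_group : nC hD F ∈ D.group F := by
  refine list_prod_mem fun x hx => ?_
  obtain ⟨i, -, rfl⟩ := List.mem_map.1 hx
  exact mul_mem (mul_mem (xg_mem_group hD _ _) (xg_mem_group hD _ _)) (xg_mem_group hD _ _)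

theorem hg_mem_group (r : ℕ) (t : F) : hg hD F r t ∈ D.group F :=
  mul_mem (mul_mem (mul_mem (xg_mem_group hD _ _) (xg_mem_group hD _ _)) (xg_mem_group hD _ _))
    (mul_mem (mul_mem (xg_mem_group hD _ _) (xg_mem_group hD _ _)) (xg_mem_group hD _ _))

omit hD in
theorem exists_pair {a b : GL D.Idx F} (ha : a ∈ D.group F) (hb : b ∈ D.group F)
    (h : D.group F ≤ Subgroup.closure {a, b}) :
    ∃ a b : ↥(D.group F), Subgroup.closure ({a, b} : Set ↥(D.group F)) = ⊤ := by
  refine ⟨⟨a, ha⟩, ⟨b, hb⟩, eq_top_iff.2 fun x _ => ?_⟩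
  refine (Subgroup.mem_map_iff_mem (D.group F).subtype_injective).1 ?_
  rw [MonoidHom.map_closure, Set.image_insert_eq, Set.image_singleton]
  exact h x.2

/-- Conjugation by the Coxeter representative carries the scaling of `q` to that of its image. -/
theorem scale_nC {h : GL D.Idx F} {q : ℕ} (hq : q < D.nroots) {c : F}
    (hh : ∀ v : F, h * xg hD F q v = xg hD F q (c * v) * h) (v : F) :
    nC hD F * h * (nC hD F)⁻¹ * xg hD F (wC D q) v =
      xg hD F (wC D q) (c * v) * (nC hD F * h * (nC hD F)⁻¹) := by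
  obtain ⟨-, σ, hσ, hc⟩ := nC_conj hD (F := F) hq
  have hσ' : ∀ w : F, σ * (σ * w) = w := fun w => by rcases hσ with e | e <;> simp [e]
  have e : ∀ w : F, xg hD F (wC D q) w = nC hD F * xg hD F q (σ * w) * (nC hD F)⁻¹ := fun w => by
    rw [hc, hσ']
  rw [e v, e (c * v), show σ * (c * v) = c * (σ * v) by ring]
  calc nC hD F * h * (nC hD F)⁻¹ * (nC hD F * xg hD F q (σ * v) * (nC hD F)⁻¹)
      = nC hD F * (h * xg hD F q (σ * v)) * (nC hD F)⁻¹ := by group
    _ = _ := by rw [hh]; group

theorem nC_conj_diag {M : List (List ℤ)} {d : ℤ} (hR : Roots D M d) {h : GL D.Idx F}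
    (hh : h ∈ D.diagonalSubgroup F) : nC hD F * h * (nC hD F)⁻¹ ∈ D.diagonalSubgroup F := by
  have key : ∀ l : List ℕ, (∀ i ∈ l, i < D.rank) →
      (l.map fun i => ng hD F (D.simple i) 1).prod * h * ((l.map fun i => ng hD F (D.simple i) 1).prod)⁻¹ ∈
        D.diagonalSubgroup F := by
    intro l
    induction l with
    | nil => intro _; simpa using hh
    | cons i l ih =>
      intro hl
      rw [List.map_cons, List.prod_cons, show ∀ a b x : GL D.Idx F, a * b * x * (a * b)⁻¹ =
        a * (b * x * b⁻¹) * a⁻¹ from fun a b x => by group]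
      exact ng_conj_diag hD hR (hl i (by simp)) (ih fun j hj => hl j (List.mem_cons_of_mem _ hj))
  exact key _ fun _ hi => List.mem_range.1 hi

theorem xg_pow {q : ℕ} (hq : q < D.nroots) (t : F) : ∀ m : ℕ, xg hD F q t ^ m = xg hD F q (m * t)
  | 0 => by simp [xg_zero]
  | m + 1 => by rw [pow_succ, xg_pow hq t m, xg_add hD hq]; congr 1; push_cast; ring

theorem hg_pow {q : ℕ} (hq : q < D.nroots) {t : F} (ht : t ≠ 0) : ∀ m : ℕ, hg hD F q t ^ m = hg hD F q (t ^ m)
  | 0 => by simp [RankOne.hg_one]
  | m + 1 => by rw [pow_succ, hg_pow hq ht m, RankOne.hg_mul hD hq (pow_ne_zero _ ht) ht, pow_succ]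

/-- The conditions on the roots of the pair. -/
def BigData (D : ChevalleyDatum) (r u s r' u' : ℕ) (steps : List Step) : Bool :=
  decide (r' < D.nroots) && decide (u' < D.nroots) && decide (s < D.nroots) && decide (u < D.nroots) &&
    decide (r < D.nroots) && decide (wC D r' = r) && decide (wC D u' = u) &&
    decide (D.pairing s u = 0) && decide (D.pairing s r = 1 ∨ D.pairing s r = -1) &&
    decide (D.pairing s r' = 1 ∨ D.pairing s r' = -1) &&
    decide (D.pairing s u' = 1 ∨ D.pairing s u' = -1 ∨ D.pairing s u' = 2 ∨ D.pairing s u' = -2) &&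
    cert D none [r, u] steps

theorem exists_two_gen_big [Finite F] (hF : ∃ x : F, x ≠ 0 ∧ x ≠ 1) {M : List (List ℤ)} {d : ℤ} (hR : Roots D M d)
    {r u s r' u' : ℕ} {steps : List Step} (hdata : BigData D r u s r' u' steps = true) :
    ∃ a b : ↥(D.group F), Subgroup.closure ({a, b} : Set ↥(D.group F)) = ⊤ := by
  classical
  letI := Fintype.ofFinite F
  simp only [BigData, Bool.and_eq_true, decide_eq_true_eq] at hdata
  obtain ⟨⟨⟨⟨⟨⟨⟨⟨⟨⟨⟨hr', hu'⟩, hs⟩, hu⟩, hr⟩, ewr⟩, ewu⟩, psu⟩, psr⟩, psr'⟩, psu'⟩, hcert⟩ := hdata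
  obtain ⟨ζ, hζ⟩ := IsCyclic.exists_generator (α := Fˣ)
  have hζ1 : ζ ≠ 1 := by
    rintro rfl
    obtain ⟨x, hx0, hx1⟩ := hF
    obtain ⟨m, hm⟩ := Subgroup.mem_zpowers_iff.1 (hζ (Units.mk0 x hx0))
    simp only [one_zpow] at hm
    exact hx1 (congrArg Units.val hm).symm
  -- a power `±1` of the generator is a generator
  have hgen : ∀ e : ℤ, e = 1 ∨ e = -1 → ∀ v : Fˣ, ∃ m : ℕ, (ζ ^ e) ^ m = v := by
    intro e he v
    have : v ∈ Subgroup.zpowers (ζ ^ e) := by
      rcases he with rfl | rfl
      · simpa using hζ v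
      · simpa using hζ v
    exact (mem_powers_iff_mem_zpowers.2 this)
  set h := hg hD F s (ζ : F) with hhdef
  set n := nC hD F
  set a := h * xg hD F u 1
  set b := xg hD F r 1 * n
  refine exists_pair (a := a) (b := b) (mul_mem (hg_mem_group hD _ _) (xg_mem_group hD _ _))
    (mul_mem (xg_mem_group hD _ _) (nC_mem_group hD)) ?_
  set S := Subgroup.closure ({a, b} : Set (GL D.Idx F))
  have haS : a ∈ S := Subgroup.subset_closure (by simp)
  have hbS : b ∈ S := Subgroup.subset_closure (by simp)
  have hscale : ∀ q v, h * xg hD F q v = xg hD F q (((ζ ^ D.pairing s q : Fˣ) : F) * v) * h := fun q v => by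
    rw [hg_conj hD hs ζ.ne_zero, Units.val_zpow_eq_zpow_val]
  -- the two factors of `a`
  have hcomm : Commute h (xg hD F u 1) := by
    show h * _ = _ * h
    rw [hscale, psu, zpow_zero, Units.val_one, one_mul]
  have hxu : xg hD F u 1 ∈ S := by
    have e : a ^ (Fintype.card F - 1) = xg hD F u (-1) := by
      rw [hcomm.mul_pow, hg_pow hD hs ζ.ne_zero, FiniteField.pow_card_sub_one_eq_one _ ζ.ne_zero,
        RankOne.hg_one, one_mul, xg_pow hD hu]
      congr 1
      rw [Nat.cast_sub Fintype.card_pos, Nat.cast_one, FiniteField.cast_card_eq_zero]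
      ring
    have := inv_mem (pow_mem haS (Fintype.card F - 1))
    rwa [e, xg_inv, _root_.neg_neg] at this
  have hh : h ∈ S := by
    have := mul_mem haS (inv_mem hxu)
    rwa [mul_inv_cancel_right] at this
  -- the root `r`
  set h' := n * h * n⁻¹ with hh'
  have hdiag : h ∈ D.diagonalSubgroup F := Subgroup.subset_closure ⟨s, ζ, hs, ζ.ne_zero, coe_hg hD _ _⟩
  have hcd : h * h' = h' * h := diag_commute hD hdiag (nC_conj_diag hD hR hdiag)
  have hsc' : ∀ v, h' * xg hD F r v = xg hD F r (((ζ ^ D.pairing s r' : Fˣ) : F) * v) * h' := fun v => by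
    rw [← ewr]; exact scale_nC hD hr' (fun v => hscale r' v) v
  set c := ((ζ ^ D.pairing s r : Fˣ) : F) with hcdef
  set c' := ((ζ ^ D.pairing s r' : Fˣ) : F) with hc'def
  have hne : ∀ e : ℤ, e = 1 ∨ e = -1 → ((ζ ^ e : Fˣ) : F) ≠ 1 := by
    intro e he h1
    rcases he with rfl | rfl
    · exact hζ1 (Units.ext (by simpa using h1))
    · exact hζ1 (inv_eq_one.1 (Units.ext (by simpa using h1)))
  have hx0 : xg hD F r ((c - 1) * (1 - c')) ∈ S := by
    have h1 : xg hD F r (1 - c') * h' ∈ S := by
      have := mul_mem (mul_mem hbS hh) (inv_mem hbS)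
      have e : b * h * b⁻¹ = xg hD F r (1 - c') * h' := by
        calc b * h * b⁻¹ = xg hD F r 1 * (h' * xg hD F r (-1)) := by
              rw [← xg_inv]; simp only [b, hh']; group
          _ = _ := by rw [hsc', ← mul_assoc, xg_add hD hr]; congr 2; ring
      rwa [e] at this
    have := mul_mem (mul_mem (mul_mem hh h1) (inv_mem hh)) (inv_mem h1)
    have e : h * (xg hD F r (1 - c') * h') * h⁻¹ * (xg hD F r (1 - c') * h')⁻¹ =
        xg hD F r ((c - 1) * (1 - c')) := by
      calc h * (xg hD F r (1 - c') * h') * h⁻¹ * (xg hD F r (1 - c') * h')⁻¹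
          = xg hD F r (c * (1 - c')) * (h * h') * h⁻¹ * (xg hD F r (1 - c') * h')⁻¹ := by
            rw [← mul_assoc h, hscale, ← hcdef]; generalize c * (1 - c') = w; group
        _ = xg hD F r (c * (1 - c')) * (xg hD F r (1 - c'))⁻¹ := by rw [hcd]; group
        _ = _ := by rw [xg_inv, xg_add hD hr]; congr 1; ring
    rwa [e] at this
  have hx0' : (c - 1) * (1 - c') ≠ 0 :=
    mul_ne_zero (sub_ne_zero.2 (hne _ psr)) (sub_ne_zero.2 (hne _ psr').symm)
  have hR1 : ∀ v, xg hD F r v ∈ S := by
    have hstep : ∀ m : ℕ, ∀ v, xg hD F r v ∈ S → xg hD F r ((((ζ ^ D.pairing s r) ^ m : Fˣ) : F) * v) ∈ S := by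
      intro m
      induction m with
      | zero => intro v hv; simpa using hv
      | succ m ih =>
        intro v hv
        have := mul_mem (mul_mem hh (ih v hv)) (inv_mem hh)
        rw [hscale, mul_inv_cancel_right, ← mul_assoc, ← hcdef] at this
        rwa [pow_succ', Units.val_mul]
    intro v
    by_cases hv : v = 0
    · subst hv; rw [xg_zero]; exact one_mem _
    obtain ⟨m, hm⟩ := hgen _ psr (Units.mk0 (v / ((c - 1) * (1 - c'))) (div_ne_zero hv hx0'))
    have := hstep m _ hx0
    rwa [hm, Units.val_mk0, div_mul_cancel₀ v hx0'] at this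
  have hn : n ∈ S := by
    have := mul_mem (inv_mem (hR1 1)) hbS
    rwa [inv_mul_cancel_left] at this
  -- the root `u`
  have hU1 : ∀ v, xg hD F u v ∈ S := by
    have hh'' : n * h * n⁻¹ ∈ S := mul_mem (mul_mem hn hh) (inv_mem hn)
    obtain ⟨e, he, he2⟩ : ∃ e : ℤ, (e = 1 ∨ e = -1) ∧ (2 * e = D.pairing s u' ∨ 2 * e = 2 * D.pairing s u') := by
      rcases psu' with p | p | p | p
      · exact ⟨1, Or.inl rfl, Or.inr (by rw [p])⟩
      · exact ⟨-1, Or.inr rfl, Or.inr (by rw [p])⟩
      · exact ⟨1, Or.inl rfl, Or.inl (by rw [p]; rfl)⟩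
      · exact ⟨-1, Or.inr rfl, Or.inl (by rw [p]; rfl)⟩
    have hsu : ∀ v, xg hD F u v ∈ S → xg hD F u (((ζ ^ D.pairing s u' : Fˣ) : F) * v) ∈ S := fun v hv => by
      have := mul_mem (mul_mem hh'' hv) (inv_mem hh'')
      rw [show n * h * n⁻¹ * xg hD F u v = xg hD F u (((ζ ^ D.pairing s u' : Fˣ) : F) * v) * (n * h * n⁻¹) by
        rw [← ewu]; exact scale_nC hD hu' (fun v => hscale u' v) v, mul_inv_cancel_right] at this
      exact this
    have hsq : ∀ v, xg hD F u v ∈ S → xg hD F u (((ζ ^ e : Fˣ) : F) ^ 2 * v) ∈ S := fun v hv => by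
      rw [← Units.val_pow_eq_pow_val, ← zpow_natCast, ← zpow_mul, mul_comm e]
      rcases he2 with e2 | e2
      · rw [show ((2 : ℕ) : ℤ) * e = D.pairing s u' from e2]; exact hsu v hv
      · rw [show ((2 : ℕ) : ℤ) * e = D.pairing s u' + D.pairing s u' by push_cast; omega, zpow_add,
          Units.val_mul, mul_assoc]
        exact hsu _ (hsu v hv)
    have hsq' : ∀ m : ℕ, xg hD F u (((((ζ ^ e) ^ m : Fˣ) : F)) ^ 2) ∈ S := by
      intro m
      induction m with
      | zero => simpa using hxu
      | succ m ih =>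
        have := hsq _ ih
        rwa [← mul_pow, ← Units.val_mul, ← pow_succ'] at this
    have hall : ∀ v : F, xg hD F u (v ^ 2) ∈ S := by
      intro v
      by_cases hv : v = 0
      · subst hv; rw [zero_pow two_ne_zero, xg_zero]; exact one_mem _
      obtain ⟨m, hm⟩ := hgen e he (Units.mk0 v hv)
      have := hsq' m
      rwa [hm, Units.val_mk0] at this
    intro v
    by_cases h2 : (2 : F) = 0
    · have hch : ringChar F = 2 := by
        rcases (Nat.dvd_prime Nat.prime_two).1 (ringChar.dvd (R := F) (x := 2) (by exact_mod_cast h2)) with h | h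
        · exact absurd h (CharP.ringChar_ne_one)
        · exact h
      obtain ⟨w, rfl⟩ := FiniteField.isSquare_of_char_two hch v
      rw [← sq]; exact hall w
    · have := mul_mem (hall ((v + 1) / 2)) (inv_mem (hall ((v - 1) / 2)))
      rw [xg_inv, xg_add hD hu] at this
      rwa [show ((v + 1) / 2) ^ 2 + -(((v - 1) / 2) ^ 2) = v by field_simp; ring] at this
  exact group_le_of_cert hD hR hn (hf := none) (fun r hr => by simp at hr) hcert fun q hq _ => by
    simp only [List.mem_cons, List.not_mem_nil, or_false] at hq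
    rcases hq with rfl | rfl
    exacts [hR1, hU1]

/-- Two field elements, one root. -/
theorem exists_two_gen_two (hF : ∀ x : F, x = 0 ∨ x = 1) {M : List (List ℤ)} {d : ℤ} (hR : Roots D M d) {r : ℕ} {steps : List Step}
    (hcert : cert D none [r] steps = true) :
    ∃ a b : ↥(D.group F), Subgroup.closure ({a, b} : Set ↥(D.group F)) = ⊤ := by
  refine exists_pair (a := xg hD F r 1) (b := nC hD F) (xg_mem_group hD _ _) (nC_mem_group hD)
    (group_le_of_cert hD hR (Subgroup.subset_closure (by simp)) (hf := none) (fun r hr => by simp at hr) hcert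
      fun q hq _ v => ?_)
  obtain rfl := List.mem_singleton.1 hq
  rcases hF v with rfl | rfl
  · rw [xg_zero]; exact one_mem _
  · exact Subgroup.subset_closure (by simp)

/-- The conditions on the two roots over two elements. -/
def TwoData (D : ChevalleyDatum) (u r : ℕ) (steps : List Step) : Bool :=
  decide (r < D.nroots) && decide (u < D.nroots) && decide (u ≠ r) && decide (u ≠ D.neg r) &&
    decide (D.commTerms r u = []) && decide (D.commTerms (D.neg r) u = []) && cert D (some r) [u] steps

/-- Two field elements, two commuting roots. -/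
theorem exists_two_gen_two' (hF : ∀ x : F, x = 0 ∨ x = 1) {M : List (List ℤ)} {d : ℤ} (hR : Roots D M d) {u r : ℕ} {steps : List Step}
    (hdata : TwoData D u r steps = true) :
    ∃ a b : ↥(D.group F), Subgroup.closure ({a, b} : Set ↥(D.group F)) = ⊤ := by
  simp only [TwoData, Bool.and_eq_true, decide_eq_true_eq] at hdata
  obtain ⟨⟨⟨⟨⟨⟨hr, hu⟩, h1⟩, h2⟩, c1⟩, c2⟩, hcert⟩ := hdata
  set e := xg hD F (D.neg r) 1 * xg hD F r 1 with hedef
  have h2F : (2 : F) = 0 := by
    rcases hF (1 + 1) with h | h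
    · rw [one_add_one_eq_two] at h; exact h
    · exact absurd (show (1 : F) = 0 by linear_combination h) one_ne_zero
  have h3 : (3 : F) = 1 := by linear_combination h2F
  have he3 : e ^ 3 = 1 := by
    rw [hedef, ← RankOne.sl2Hom_slY hD hr, ← RankOne.sl2Hom_slX hD hr, ← map_mul, ← map_pow]
    convert map_one (RankOne.sl2Hom hD hr) using 2
    apply Subtype.ext
    rw [pow_three]
    simp only [Matrix.SpecialLinearGroup.coe_mul, Matrix.SpecialLinearGroup.coe_one]
    ext i j
    fin_cases i <;> fin_cases j <;>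
      simp [RankOne.slX, RankOne.slY, Matrix.mul_apply, Fin.sum_univ_two] <;> grobner
  have hcm : ∀ {q : ℕ}, q < D.nroots → u ≠ q → u ≠ D.neg q → D.commTerms q u = [] →
      Commute (xg hD F u 1) (xg hD F q 1) := by
    intro q hq e1 e2 ec
    show _ = _
    rw [xg_commutator F hD hq hu e1 e2, ChevalleyDatum.commWord, ec]
    simp
  have hc : Commute (xg hD F u 1) e :=
    (hcm (hD.neg_lt r hr) h2 (by rwa [hD.neg_neg r hr]) c2).mul_right (hcm hr h1 h2 c1)
  set a := xg hD F u 1 * e
  refine exists_pair (a := a) (b := nC hD F)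
    (mul_mem (xg_mem_group hD _ _) (mul_mem (xg_mem_group hD _ _) (xg_mem_group hD _ _))) (nC_mem_group hD) ?_
  have haS : a ∈ Subgroup.closure ({a, nC hD F} : Set (GL D.Idx F)) := Subgroup.subset_closure (by simp)
  have hxu : xg hD F u 1 ∈ Subgroup.closure ({a, nC hD F} : Set (GL D.Idx F)) := by
    have := pow_mem haS 3
    rw [hc.mul_pow, he3, mul_one, xg_pow hD hu, mul_one] at this
    rwa [show ((3 : ℕ) : F) = 1 by exact_mod_cast h3] at this
  have he : e ∈ Subgroup.closure ({a, nC hD F} : Set (GL D.Idx F)) := by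
    have := mul_mem (inv_mem hxu) haS
    rwa [inv_mul_cancel_left] at this
  refine group_le_of_cert hD hR (Subgroup.subset_closure (by simp)) (hf := some r)
    (fun r' hr' => by obtain rfl := Option.some.inj hr'; exact ⟨hF, he⟩) hcert fun q hq _ v => ?_
  obtain rfl := List.mem_singleton.1 hq
  rcases hF v with rfl | rfl
  · rw [xg_zero]; exact one_mem _
  · exact hxu

end Cfsg.Agent.ChevGen.TwoGen
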