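import Cfsg.Agent.Lib.ChevGen.TwoGen
import Cfsg.Agent.Lib.Chev.All
import Cfsg.Agent.Lib.ChevBN.RootTables

/-!
# Certificates for two generation of the seven Chevalley groups
-/

set_option autoImplicit false
set_option maxRecDepth 100000
set_option Elab.async false

namespace Cfsg.Agent.ChevGen.TwoGen

open Cfsg.Lie Cfsg.Agent.Chev Cfsg.Agent.ChevBN

theorem bigG2 : BigData chevG2 0 2 5 1 4
    [.orbit 0 [5], .orbit 2 [3], .orbit 3 [7], .orbit 7 [9], .orbit 9 [8], .refl 2 8, .refl 3 0] = true := by decide +kernel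

theorem bigB2 : BigData chevB2 1 0 4 2 4
    [.orbit 1 [5], .comm 5 0 1, .orbit 5 [6], .refl 1 0, .refl 1 3, .refl 0 6] = true := by decide +kernel

theorem bigD4 : BigData chevD4 1 10 0 9 8
    [.orbit 10 [21], .comm 1 21 0, .orbit 21 [15], .comm 11 15 0, .orbit 15 [13], .comm 1 13 0, .comm 15 3 0, .orbit 3 [7], .refl 10 7, .comm 21 7 0, .comm 11 9 0, .refl 15 9] = true := by decide +kernel

theorem bigF4 : BigData chevF4 0 3 23 1 10
    [.orbit 0 [15], .orbit 3 [7], .orbit 15 [21], .orbit 21 [41], .comm 3 41 0, .orbit 41 [45], .comm 7 45 0, .comm 3 34 0, .orbit 45 [46], .comm 0 46 0, .comm 8 46 0, .comm 3 37 0, .orbit 46 [47], .refl 0 15, .refl 0 18, .refl 0 11, .refl 3 7, .refl 3 45, .comm 3 45 0, .refl 3 47, .refl 3 42, .refl 3 40, .refl 7 46, .refl 41 42, .refl 41 16, .refl 45 46, .refl 45 44, .refl 45 1] = true := by decide +kernel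

theorem bigE6 : BigData chevE6 0 2 10 4 7
    [.orbit 0 [1], .orbit 2 [17], .orbit 1 [16], .orbit 17 [31], .orbit 16 [30], .orbit 31 [33], .orbit 33 [62], .comm 2 62 0, .orbit 62 [68], .comm 0 68 0, .comm 2 68 0, .orbit 68 [53], .comm 0 53 0, .comm 1 53 0, .comm 17 53 0, .orbit 53 [66], .comm 0 66 0, .comm 2 66 0, .comm 16 66 0, .comm 31 66 0, .comm 31 21 0, .comm 68 21 0, .comm 23 29 0, .refl 53 21, .refl 53 60, .refl 53 20, .refl 8 11, .refl 8 60, .orbit 66 [45], .comm 2 45 0, .refl 1 45, .refl 31 7, .comm 30 45 0, .refl 62 63, .refl 62 7, .refl 62 10, .refl 26 11] = true := by decide +kernel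

theorem bigE7 : BigData chevE7 0 3 15 6 10
    [.orbit 0 [1], .orbit 3 [8], .orbit 1 [2], .orbit 8 [34], .orbit 2 [7], .orbit 34 [54], .orbit 7 [33], .orbit 54 [57], .orbit 57 [100], .orbit 100 [110], .comm 0 110 0, .orbit 110 [120], .comm 0 120 0, .comm 1 120 0, .orbit 120 [115], .comm 0 115 0, .comm 1 115 0, .comm 2 115 0, .comm 54 23 0, .comm 28 39 0, .orbit 115 [122], .refl 3 1, .refl 3 2, .refl 3 7, .refl 3 18, .refl 3 23, .refl 3 43, .refl 3 17, .refl 3 11, .comm 1 85 0, .comm 1 112 0, .comm 34 90 0, .orbit 122 [117], .comm 0 117 0, .refl 3 25, .refl 8 7, .refl 8 49, .refl 8 11, .refl 8 51, .refl 8 84, .refl 8 80, .refl 8 9, .refl 8 36, .refl 2 1, .refl 2 105, .refl 2 124, .refl 33 17, .refl 33 108, .orbit 117 [91], .refl 34 33, .refl 34 36, .refl 34 97, .refl 34 35, .refl 7 3] = true := by decide +kernel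

theorem bigE8_0 : ([.orbit 0 [15], .orbit 6 [7], .orbit 15 [21], .orbit 7 [14], .orbit 21 [36], .orbit 14 [8]] : List Step).foldlM
    (step chevE8 none) [0, 6] = some [0, 6, 15, 7, 21, 14, 36, 8] := by decide +kernel

theorem bigE8_1 : ([.orbit 36 [78], .orbit 8 [16], .orbit 78 [105], .orbit 16 [22], .orbit 105 [169], .orbit 22 [37]] : List Step).foldlM
    (step chevE8 none) [0, 6, 15, 7, 21, 14, 36, 8] = some [0, 6, 15, 7, 21, 14, 36, 8, 78, 16, 105, 22, 169, 37] := by decide +kernel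

theorem bigE8_2 : ([.orbit 169 [184], .orbit 184 [204], .comm 6 204 0, .orbit 204 [226], .comm 6 226 0, .comm 7 226 0, .orbit 226 [234], .comm 6 234 0, .comm 7 234 0, .orbit 234 [235], .orbit 235 [236], .comm 6 236 0, .comm 7 236 0] : List Step).foldlM
    (step chevE8 none) [0, 6, 15, 7, 21, 14, 36, 8, 78, 16, 105, 22, 169, 37] = some [0, 6, 15, 7, 21, 14, 36, 8, 78, 16, 105, 22, 169, 37, 184, 204, 56, 226, 93, 99, 234, 135, 141, 235, 236, 137, 143] := by decide +kernel

theorem bigE8_3 : cert chevE8 none [0, 6, 15, 7, 21, 14, 36, 8, 78, 16, 105, 22, 169, 37, 184, 204, 56, 226, 93, 99, 234, 135, 141, 235, 236, 137, 143]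
    [.orbit 236 [237], .comm 6 237 0, .comm 7 237 0, .comm 7 138 0, .comm 14 237 0, .orbit 237 [238], .comm 0 238 0, .comm 6 238 0, .comm 7 238 0, .comm 7 139 0, .comm 14 238 0, .comm 14 145 0, .comm 36 167 0, .comm 16 139 0, .comm 22 145 0, .comm 204 12 0, .comm 137 19 0, .comm 143 28 0, .comm 138 19 0, .comm 138 41 0, .comm 138 47 0, .comm 144 28 0, .comm 144 31 0, .comm 166 47 0, .orbit 238 [239], .refl 0 16, .refl 0 56, .refl 0 93, .refl 0 99, .refl 0 11, .refl 0 12, .refl 0 71, .refl 0 31, .refl 0 33, .refl 0 62, .refl 0 66, .refl 0 49, .refl 0 52, .refl 0 88, .refl 6 14, .refl 6 177, .refl 6 225, .refl 6 231, .refl 15 16, .refl 15 220, .refl 15 223, .refl 7 231, .refl 21 22, .refl 21 217, .refl 21 29, .refl 36 37, .refl 36 202, .refl 78 79, .refl 78 160, .refl 105 106] = true := by decide +kernel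

theorem bigE8 : BigData chevE8 0 6 7 1 20
    (([.orbit 0 [15], .orbit 6 [7], .orbit 15 [21], .orbit 7 [14], .orbit 21 [36], .orbit 14 [8]] : List Step) ++ (([.orbit 36 [78], .orbit 8 [16], .orbit 78 [105], .orbit 16 [22], .orbit 105 [169], .orbit 22 [37]] : List Step) ++ (([.orbit 169 [184], .orbit 184 [204], .comm 6 204 0, .orbit 204 [226], .comm 6 226 0, .comm 7 226 0, .orbit 226 [234], .comm 6 234 0, .comm 7 234 0, .orbit 234 [235], .orbit 235 [236], .comm 6 236 0, .comm 7 236 0] : List Step) ++ (([.orbit 236 [237], .comm 6 237 0, .comm 7 237 0, .comm 7 138 0, .comm 14 237 0, .orbit 237 [238], .comm 0 238 0, .comm 6 238 0, .comm 7 238 0, .comm 7 139 0, .comm 14 238 0, .comm 14 145 0, .comm 36 167 0, .comm 16 139 0, .comm 22 145 0, .comm 204 12 0, .comm 137 19 0, .comm 143 28 0, .comm 138 19 0, .comm 138 41 0, .comm 138 47 0, .comm 144 28 0, .comm 144 31 0, .comm 166 47 0, .orbit 238 [239], .refl 0 16, .refl 0 56, .refl 0 93, .refl 0 99, .refl 0 11, .refl 0 12, .refl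 0 71, .refl 0 31, .refl 0 33, .refl 0 62, .refl 0 66, .refl 0 49, .refl 0 52, .refl 0 88, .refl 6 14, .refl 6 177, .refl 6 225, .refl 6 231, .refl 15 16, .refl 15 220, .refl 15 223, .refl 7 231, .refl 21 22, .refl 21 217, .refl 21 29, .refl 36 37, .refl 36 202, .refl 78 79, .refl 78 160, .refl 105 106] : List Step))))) = true := by
  simp only [BigData, Bool.and_eq_true, decide_eq_true_eq]
  refine ⟨⟨⟨⟨⟨⟨⟨⟨⟨⟨⟨?_, ?_⟩, ?_⟩, ?_⟩, ?_⟩, ?_⟩, ?_⟩, ?_⟩, ?_⟩, ?_⟩, ?_⟩, cert_append (by decide +kernel) bigE8_0 (cert_append (by decide +kernel) bigE8_1 (cert_append (by decide +kernel) bigE8_2 (bigE8_3)))⟩ <;> decide +kernel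

theorem twoE6 : cert chevE6 none [56]
    [.orbit 56 [42], .orbit 42 [47], .comm 42 47 0, .orbit 47 [59], .orbit 59 [52], .orbit 52 [39], .comm 42 39 0, .orbit 39 [37], .comm 47 37 0, .comm 50 37 0, .comm 43 37 0, .orbit 37 [36], .comm 37 36 0, .comm 48 36 0, .comm 44 36 0, .orbit 36 [8], .comm 56 8 0, .comm 42 19 0, .comm 47 22 0, .refl 52 51, .refl 52 36, .refl 52 49, .refl 52 45, .refl 52 8, .refl 51 50, .refl 38 22, .orbit 8 [28], .refl 42 28, .refl 47 32] = true := by decide +kernel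

theorem twoE7 : cert chevE7 none [69]
    [.orbit 69 [66], .comm 69 66 0, .orbit 66 [64], .comm 66 64 0, .orbit 64 [63], .orbit 63 [23], .orbit 23 [51], .comm 69 51 0, .orbit 51 [45], .comm 70 45 0, .orbit 45 [28], .comm 67 28 0, .orbit 28 [39], .orbit 39 [56], .orbit 56 [59], .orbit 59 [61], .orbit 61 [62], .refl 63 28, .orbit 62 [102], .refl 23 39, .refl 23 27, .orbit 102 [74], .refl 69 74, .refl 51 30] = true := by decide +kernel

theorem twoE8_0 : ([.orbit 162 [135], .comm 162 135 0, .orbit 135 [142], .orbit 142 [165], .comm 142 165 0, .orbit 165 [149], .comm 162 149 0, .comm 165 149 0, .comm 174 149 0, .orbit 149 [176], .comm 149 176 0, .comm 188 176 0, .orbit 176 [190]] : List Step).foldlM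
    (step chevE8 none) [162] = some [162, 135, 163, 142, 165, 174, 149, 171, 188, 204, 176, 207, 226, 190] := by decide +kernel

theorem twoE8_1 : ([.orbit 190 [153], .comm 162 153 0, .comm 135 175 0, .comm 165 153 0, .orbit 153 [179], .comm 135 179 0, .comm 142 189 0, .orbit 179 [192], .orbit 192 [154], .orbit 154 [180], .orbit 180 [138], .comm 162 138 0] : List Step).foldlM
    (step chevE8 none) [162, 135, 163, 142, 165, 174, 149, 171, 188, 204, 176, 207, 226, 190] = some [162, 135, 163, 142, 165, 174, 149, 171, 188, 204, 176, 207, 226, 190, 153, 175, 185, 194, 179, 189, 205, 192, 154, 180, 138, 166] := by decide +kernel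

theorem twoE8_2 : ([.orbit 138 [145], .comm 135 145 0, .comm 163 145 0, .orbit 145 [168], .comm 142 168 0, .orbit 168 [77], .orbit 77 [104], .orbit 104 [97], .orbit 97 [74], .refl 165 166] : List Step).foldlM
    (step chevE8 none) [162, 135, 163, 142, 165, 174, 149, 171, 188, 204, 176, 207, 226, 190, 153, 175, 185, 194, 179, 189, 205, 192, 154, 180, 138, 166] = some [162, 135, 163, 142, 165, 174, 149, 171, 188, 204, 176, 207, 226, 190, 153, 175, 185, 194, 179, 189, 205, 192, 154, 180, 138, 166, 145, 150, 172, 168, 177, 77, 104, 97, 74, 123] := by decide +kernel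

theorem twoE8_3 : cert chevE8 none [162, 135, 163, 142, 165, 174, 149, 171, 188, 204, 176, 207, 226, 190, 153, 175, 185, 194, 179, 189, 205, 192, 154, 180, 138, 166, 145, 150, 172, 168, 177, 77, 104, 97, 74, 123]
    [.orbit 74 [90], .refl 162 90, .refl 165 90, .refl 149 153, .refl 149 138, .refl 149 150, .refl 188 185, .orbit 90 [63], .refl 162 63, .refl 165 85, .refl 149 63, .refl 171 44, .refl 176 175, .refl 176 179, .refl 176 172, .refl 176 177, .refl 207 205, .refl 226 172, .refl 194 204, .orbit 63 [49], .refl 190 189] = true := by decide +kernel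

theorem twoE8 : cert chevE8 none [162]
    (([.orbit 162 [135], .comm 162 135 0, .orbit 135 [142], .orbit 142 [165], .comm 142 165 0, .orbit 165 [149], .comm 162 149 0, .comm 165 149 0, .comm 174 149 0, .orbit 149 [176], .comm 149 176 0, .comm 188 176 0, .orbit 176 [190]] : List Step) ++ (([.orbit 190 [153], .comm 162 153 0, .comm 135 175 0, .comm 165 153 0, .orbit 153 [179], .comm 135 179 0, .comm 142 189 0, .orbit 179 [192], .orbit 192 [154], .orbit 154 [180], .orbit 180 [138], .comm 162 138 0] : List Step) ++ (([.orbit 138 [145], .comm 135 145 0, .comm 163 145 0, .orbit 145 [168], .comm 142 168 0, .orbit 168 [77], .orbit 77 [104], .orbit 104 [97], .orbit 97 [74], .refl 165 166] : List Step) ++ (([.orbit 74 [90], .refl 162 90, .refl 165 90, .refl 149 153, .refl 149 138, .refl 149 150, .refl 188 185, .orbit 90 [63], .refl 162 63, .refl 165 85, .refl 149 63, .refl 171 44, .refl 176 175, .refl 176 179, .refl 176 172, .refl 176 177, .refl 207 205, .refl 226 172, .refl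 194 204, .orbit 63 [49], .refl 190 189] : List Step))))) = true :=
  cert_append (by decide +kernel) twoE8_0 (cert_append (by decide +kernel) twoE8_1 (cert_append (by decide +kernel) twoE8_2 (twoE8_3)))

theorem twoD4 : TwoData chevD4 1 7
    [.orbit 1 [18], .orbit 18 [14], .half 14 0, .orbit 10 [21], .comm 1 21 0, .orbit 14 [22], .orbit 22 [5], .refl 18 21, .half 5 0, .refl 1 2, .orbit 5 [9], .refl 14 16] = true := by decide +kernel

theorem twoF4 : TwoData chevF4 0 10
    [.orbit 0 [15], .orbit 15 [21], .orbit 21 [41], .orbit 41 [45], .orbit 45 [46], .comm 0 46 0, .orbit 46 [47], .orbit 47 [32], .orbit 32 [26], .refl 0 26, .refl 15 26, .refl 21 23, .half 41 0, .half 46 0, .orbit 33 [27], .refl 21 27, .comm 41 29 0, .refl 45 27, .refl 45 44, .comm 39 3 0, .refl 27 17, .refl 27 13, .refl 21 22] = true := by decide +kernel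

theorem exists_two_gen {F : Type*} [Field F] [Finite F] {D : ChevalleyDatum}
    (hD : D ∈ [chevG2, chevB2, chevD4, chevF4, chevE6, chevE7, chevE8])
    (hF : D ∈ [chevB2, chevG2] → ∃ x : F, x ≠ 0 ∧ x ≠ 1) :
    ∃ a b : ↥(D.group F), Subgroup.closure ({a, b} : Set ↥(D.group F)) = ⊤ := by
  have hG := good_of_mem hD
  simp only [List.mem_cons, List.not_mem_nil, or_false] at hD hF
  by_cases h : ∃ x : F, x ≠ 0 ∧ x ≠ 1
  · rcases hD with rfl | rfl | rfl | rfl | rfl | rfl | rfl
    exacts [exists_two_gen_big hG h rootsG2 bigG2, exists_two_gen_big hG h rootsB2 bigB2,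
      exists_two_gen_big hG h rootsD4 bigD4, exists_two_gen_big hG h rootsF4 bigF4,
      exists_two_gen_big hG h rootsE6 bigE6, exists_two_gen_big hG h rootsE7 bigE7,
      exists_two_gen_big hG h rootsE8 bigE8]
  · have h2 : ∀ x : F, x = 0 ∨ x = 1 := fun x => or_iff_not_and_not.2 fun hx => h ⟨x, hx⟩
    rcases hD with rfl | rfl | rfl | rfl | rfl | rfl | rfl
    exacts [absurd (hF (Or.inr rfl)) h, absurd (hF (Or.inl rfl)) h, exists_two_gen_two' hG h2 rootsD4 twoD4,
      exists_two_gen_two' hG h2 rootsF4 twoF4, exists_two_gen_two hG h2 rootsE6 twoE6, exists_two_gen_two hG h2 rootsE7 twoE7,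
      exists_two_gen_two hG h2 rootsE8 twoE8]

end Cfsg.Agent.ChevGen.TwoGen
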